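import Cfsg.Agent.Lib.TameRankThree.RankTwo
import Cfsg.Agent.Lib.BlockUnion.Quotient
import Cfsg.Agent.Lib.BrauerMap.CentralQuotient
import Cfsg.Agent.Lib.TwoGroup.QuasiDihedral
import Mathlib

/-!
# Tame blocks with a central involution
-/

set_option autoImplicit false
set_option linter.unusedSectionVars false

namespace Cfsg.Agent.Lib.TameRankThree

open Finset Cfsg
open Cfsg.Agent.Lib
open Cfsg.Agent.Lib.DihedralDefect
open Cfsg.Agent.Lib.BrauerMap (sameBlock_of_agree_pRegular exists_pRegular_lift centralChar_inflate_eq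
  eq_of_pRegular_of_mk_eq)
open scoped ComplexConjugate

universe u

attribute [local instance] Classical.propDecidable

section Quotient

variable {G : Type u} [Group G] [Fintype G] {p : ℕ} [Fact p.Prime] {M : Ideal AlgInt} [M.IsPrime]

/-- The rank of a block is at most that of a block of the quotient by a central `p`-subgroup. -/
theorem blockRank_le_quotient (hM : IsPModular p M) (Q : Subgroup G) [Q.Normal]
    (hQc : Q ≤ Subgroup.center G) (hQ : IsPGroup p Q) {B : Set (IrrCharacter G)}
    (hB : IsPBlock M B) {Bq : Set (IrrCharacter (G ⧸ Q))} (hBq : IsPBlock M Bq)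
    (hsub : ∀ ψ ∈ Bq, Chars.inflate Q ψ ∈ B) :
    blockRank p B ≤ blockRank p Bq := by
  haveI : Fintype (G ⧸ Q) := Fintype.ofFinite _
  have hsup : Q ⊔ Subgroup.centralizer (Q : Set G) = ⊤ := by
    refine eq_top_iff.2 fun x _ => Subgroup.mem_sup_right (Subgroup.mem_centralizer_iff.2 ?_)
    exact fun w hw => (Subgroup.mem_center_iff.1 (hQc hw) x).symm
  let L : (G ⧸ Q → ℂ) →ₗ[ℂ] (G → ℂ) :=
    { toFun := fun F g => if IsPRegular p g then F (g : G ⧸ Q) else 0
      map_add' := fun F F' => funext fun g => by simp only [Pi.add_apply]; split_ifs <;> simp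
      map_smul' := fun c F => funext fun g => by
        simp only [Pi.smul_apply, RingHom.id_apply, smul_eq_mul]; split_ifs <;> simp }
  have hmk : ∀ g : G, IsPRegular p g → IsPRegular p (g : G ⧸ Q) := fun g hg hd =>
    hg (hd.trans (orderOf_map_dvd (QuotientGroup.mk' Q) g))
  choose lift hlift using fun r : {r : G ⧸ Q // IsPRegular p r} => exists_pRegular_lift hQ r.2
  have hLR : ∀ ψ : IrrCharacter (G ⧸ Q),
      L (pRegularPart p (ψ : G ⧸ Q → ℂ)) = pRegularPart p (Chars.inflate Q ψ : G → ℂ) := by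
    intro ψ
    funext g
    show (if IsPRegular p g then _ else 0) = _
    by_cases hg : IsPRegular p g
    · simp only [pRegularPart, if_pos hg, if_pos (hmk g hg)]
      rfl
    · simp only [pRegularPart, if_neg hg]
  obtain ⟨φ₀, hφ₀⟩ := Blocks.isPBlock_nonempty hBq
  have hin : ∀ ψ : IrrCharacter (G ⧸ Q), Chars.inflate Q ψ ∈ B → ψ ∈ Bq := by
    intro ψ hψ
    refine Blocks.mem_of_sameBlock hBq hφ₀ (sameBlock_of_agree_pRegular hM fun r hr => ?_)
    obtain ⟨g, hg, rfl⟩ := exists_pRegular_lift hQ hr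
    rw [← centralChar_inflate_eq hQ hsup _ hg, ← centralChar_inflate_eq hQ hsup _ hg]
    exact Blocks.sameBlock_of_mem hB (hsub φ₀ hφ₀) hψ g
  let π : (G → ℂ) →ₗ[ℂ] (G → ℂ) :=
    { toFun := fun F => ∑ η ∈ B.toFinset, classInner F (η : G → ℂ) • (η : G → ℂ)
      map_add' := fun F F' => by
        simp only [Chars.classInner_add_left, add_smul, Finset.sum_add_distrib]
      map_smul' := fun c F => by
        simp only [Chars.classInner_smul_left, RingHom.id_apply, Finset.smul_sum, smul_smul] }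
  have horth := BrauerFeit.regOrth (G := G) hM
  have hπin : ∀ η ∈ B, π (pRegularPart p (η : G → ℂ)) = pRegularPart p (η : G → ℂ) := by
    intro η hη
    funext g
    rw [BrauerFeit.pRegularPart_eq_finsum horth hB hη, finsum_mem_eq_toFinset_sum]
    show (∑ ψ ∈ B.toFinset, classInner _ (ψ : G → ℂ) • (ψ : G → ℂ)) g = _
    simp only [Finset.sum_apply, Pi.smul_apply, smul_eq_mul]
    rfl
  have hπout : ∀ η, η ∉ B → π (pRegularPart p (η : G → ℂ)) = 0 := by
    intro η hη
    refine Finset.sum_eq_zero fun ψ hψ => ?_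
    rw [show classInner (pRegularPart p (η : G → ℂ)) (ψ : G → ℂ) = 0 from
      BrauerFeit.regCoef_eq_zero horth fun h => hη
        (Blocks.mem_of_sameBlock hB (Set.mem_toFinset.1 hψ) (Blocks.sameBlock_symm h)), zero_smul]
  set SQ := Submodule.span ℂ
    ((fun ψ : IrrCharacter (G ⧸ Q) => pRegularPart p (ψ : G ⧸ Q → ℂ)) '' Bq) with hSQ
  have hGQ : Submodule.span ℂ ((fun χ : IrrCharacter G => pRegularPart p (χ : G → ℂ)) '' B) ≤
      SQ.map L := by
    rw [Submodule.span_le]
    rintro _ ⟨χ, hχ, rfl⟩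
    -- the class function of the quotient
    let f : G ⧸ Q → ℂ := fun r =>
      if h : IsPRegular p r then pRegularPart p (χ : G → ℂ) (lift ⟨r, h⟩) else 0
    have hf : ∀ g : G, IsPRegular p g → f (g : G ⧸ Q) = pRegularPart p (χ : G → ℂ) g := by
      intro g hg
      show (if h : IsPRegular p (g : G ⧸ Q) then _ else 0) = _
      rw [dif_pos (hmk g hg)]
      exact congrArg _ (eq_of_pRegular_of_mk_eq hQ hsup (hlift _).1 hg (hlift _).2)
    have hfcls : IsClassFunction (G ⧸ Q) f := by
      intro r k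
      have hord : orderOf (k * r * k⁻¹) = orderOf r :=
        orderOf_injective (MulAut.conj k).toMonoidHom (MulAut.conj k).injective r
      by_cases hr : IsPRegular p r
      · obtain ⟨g, hg, rfl⟩ := exists_pRegular_lift hQ hr
        obtain ⟨x, rfl⟩ := QuotientGroup.mk'_surjective Q k
        have hg' : IsPRegular p (x * g * x⁻¹) := by
          rwa [IsPRegular, show orderOf (x * g * x⁻¹) = orderOf g from
            orderOf_injective (MulAut.conj x).toMonoidHom (MulAut.conj x).injective g]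
        rw [QuotientGroup.mk'_apply, ← QuotientGroup.mk_mul, ← QuotientGroup.mk_inv,
          ← QuotientGroup.mk_mul, hf _ hg', hf _ hg]
        exact BrauerFeit.isClassFunction_pRegularPart p (Chars.irr_isClassFunction χ) g x
      · have hr' : ¬ IsPRegular p (k * r * k⁻¹) := by rwa [IsPRegular, hord]
        show (if h : IsPRegular p (k * r * k⁻¹) then _ else 0) =
          if h : IsPRegular p r then _ else 0
        rw [dif_neg hr, dif_neg hr']
    have hexp : pRegularPart p (χ : G → ℂ) = ∑ ψ : IrrCharacter (G ⧸ Q),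
        classInner f (ψ : G ⧸ Q → ℂ) • pRegularPart p (Chars.inflate Q ψ : G → ℂ) := by
      funext g
      simp only [Finset.sum_apply, Pi.smul_apply, smul_eq_mul]
      by_cases hg : IsPRegular p g
      · rw [← hf g hg, Chars.isClassFunction_apply_eq_sum_classInner hfcls (g : G ⧸ Q)]
        refine Finset.sum_congr rfl fun ψ _ => ?_
        simp only [pRegularPart, if_pos hg]
        rfl
      · simp only [pRegularPart, if_neg hg, mul_zero, Finset.sum_const_zero]
    rw [SetLike.mem_coe]
    show pRegularPart p (χ : G → ℂ) ∈ _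
    rw [← hπin χ hχ, hexp, map_sum]
    refine Submodule.sum_mem _ fun ψ _ => ?_
    rw [map_smul]
    refine Submodule.smul_mem _ _ ?_
    by_cases hψ : Chars.inflate Q ψ ∈ B
    · rw [hπin _ hψ, ← hLR]
      exact Submodule.mem_map_of_mem (Submodule.subset_span ⟨ψ, hin ψ hψ, rfl⟩)
    · rw [hπout _ hψ]
      exact Submodule.zero_mem _
  exact (Submodule.finrank_mono hGQ).trans (Submodule.finrank_map_le L SQ)

end Quotient

section Centre

variable {G : Type u} [Group G] [Finite G]

/-- A central element of a dihedral group is a rotation. -/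
theorem rotation_of_central {P : Subgroup G} {σ τ : G} {q : ℕ} (D : Dih P σ τ q) {y : G}
    (hy : y ∈ P) (hc : Commute y σ) : y ∈ Subgroup.zpowers σ := by
  refine (D.decomp y hy).resolve_right fun h => ?_
  have h1 := D.refl_conj h (Subgroup.mem_zpowers σ)
  rw [hc.eq, mul_inv_cancel_right] at h1
  have h2 : σ * σ = 1 := by nth_rw 2 [h1]; rw [mul_inv_cancel]
  have h3 := Nat.le_of_dvd (by norm_num) (orderOf_dvd_of_pow_eq_one (x := σ) (n := 2) (by rw [pow_two, h2]))
  rw [D.orderσ] at h3
  have := D.two_le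
  omega

/-- A block with dihedral defect group and a central involution has rank at most two. -/
theorem rank_le_two_dihedral {M : Ideal AlgInt} [M.IsPrime] (hM : IsPModular 2 M)
    {B : Set (IrrCharacter G)} (hB : IsPBlock M B) {P : Subgroup G}
    (hP : IsDefectGroup 2 M B P) {σ τ : G} {q : ℕ} (D : Dih P σ τ q) {z : G}
    (hz : z ∈ Subgroup.center G) (hz2 : orderOf z = 2) : blockRank 2 B ≤ 2 := by
  haveI : Fact (Nat.Prime 2) := ⟨Nat.prime_two⟩
  haveI := Fintype.ofFinite G
  obtain ⟨e, he⟩ := NilBlock.exists_maximal hM hB hP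
  haveI : (Subgroup.zpowers z).Normal :=
    ⟨fun w hw g => by
      obtain ⟨i, rfl⟩ := hw
      have : g * z ^ i = z ^ i * g :=
        Subgroup.mem_center_iff.1 (zpow_mem hz i) g
      show g * z ^ i * g⁻¹ ∈ _
      rw [this, mul_inv_cancel_right]
      exact Subgroup.zpow_mem_zpowers z i⟩
  have hzP : z ∈ P := Blocks.normal_le_defectGroup hM
    (IsPGroup.of_card (n := 1) (by rw [Nat.card_zpowers, hz2, pow_one])) hB hP
    (Subgroup.mem_zpowers z)
  have hzz : z * z = 1 := by rw [← pow_two, ← hz2, pow_orderOf_eq_one]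
  have hzσ := rotation_of_central D hzP (Subgroup.mem_center_iff.1 hz σ).symm
  have hzj : z = σ ^ q := ((D.sq_eq_one_iff hzσ).1 hzz).resolve_left fun h => by
    rw [h, orderOf_one] at hz2; omega
  have hτ1 : τ ≠ 1 := fun h => D.τ_notMem (h ▸ one_mem _)
  refine rank_le_two hM (b := ⟨P, e⟩) he D D.τ_mem
    (orderOf_eq_prime (by rw [pow_two, D.ττ]) hτ1) fun h => ?_
  obtain ⟨g, hg⟩ := isConj_iff.1 h.symm
  rw [← hzj, Subgroup.mem_center_iff.1 hz g, mul_inv_cancel_right] at hg
  exact D.τ_notMem (hg ▸ hzσ)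

/-- A block with semidihedral defect group and a central involution has rank at most two. -/
theorem rank_le_two_semidihedral {M : Ideal AlgInt} [M.IsPrime] (hM : IsPModular 2 M)
    {B : Set (IrrCharacter G)} (hB : IsPBlock M B) {P : Subgroup G}
    (hP : IsDefectGroup 2 M B P) (hSD : IsQuasiDihedral P) {z : G}
    (hz : z ∈ Subgroup.center G) (hz2 : orderOf z = 2) : blockRank 2 B ≤ 2 := by
  haveI : Fact (Nat.Prime 2) := ⟨Nat.prime_two⟩
  haveI := Fintype.ofFinite G
  set Z := Subgroup.zpowers z with hZ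
  haveI : Z.Normal :=
    ⟨fun w hw g => by
      obtain ⟨i, rfl⟩ := hw
      have : g * z ^ i = z ^ i * g :=
        Subgroup.mem_center_iff.1 (zpow_mem hz i) g
      show g * z ^ i * g⁻¹ ∈ _
      rw [this, mul_inv_cancel_right]
      exact Subgroup.zpow_mem_zpowers z i⟩
  have hZc : Z ≤ Subgroup.center G := Subgroup.zpowers_le.2 hz
  have hZp : IsPGroup 2 Z := IsPGroup.of_card (n := 1) (by rw [Nat.card_zpowers, hz2, pow_one])
  have hzP : z ∈ P := Blocks.normal_le_defectGroup hM hZp hB hP (Subgroup.mem_zpowers z)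
  obtain ⟨m, x, y, h⟩ := TwoGroup.exists_qdGen hSD
  have hm := h.le_n
  -- the involution is the square of the middle of the cyclic part
  have hzx : (⟨z, hzP⟩ : P) = x ^ (2 ^ (m - 1)) := by
    have hc : ∀ w : P, w * ⟨z, hzP⟩ = ⟨z, hzP⟩ * w := fun w =>
      Subtype.ext (Subgroup.mem_center_iff.1 hz (w : G))
    obtain ⟨a, ha | ha⟩ := h.cases_mem ⟨z, hzP⟩
    · have hsq : x ^ (2 * a) = 1 := by
        rw [two_mul, zpow_add, ← ha]
        exact Subtype.ext (by rw [Subgroup.coe_mul, ← pow_two, ← hz2, pow_orderOf_eq_one]; rfl)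
      rw [h.zpow_eq_one_iff] at hsq
      obtain ⟨c, hc⟩ := hsq
      rw [ha, ← zpow_natCast, h.half_eq, h.zpow_eq_zpow_iff]
      have hodd : ¬ 2 ∣ c := by
        rintro ⟨c', rfl⟩
        have h1 : (⟨z, hzP⟩ : P) = 1 := by
          rw [ha, h.zpow_eq_one_iff]
          exact ⟨c', by linarith⟩
        have := congrArg (fun w : P => (w : G)) h1
        simp only [Subgroup.coe_one] at this
        rw [this, orderOf_one] at hz2
        omega
      obtain ⟨c', rfl⟩ : ∃ c', c = 2 * c' + 1 := ⟨c / 2, by omega⟩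
      exact ⟨c', by simp only [TwoGroup.QDGen.q] at hc ⊢; push_cast at hc ⊢; linarith⟩
    · exfalso
      have h1 := hc x
      rw [ha, ← mul_assoc, ← zpow_one_add, mul_assoc (x ^ a)] at h1
      nth_rw 3 [← zpow_one x] at h1
      rw [h.y_mul_zpow, ← mul_assoc (x ^ a), ← zpow_add, mul_left_inj, h.zpow_eq_zpow_iff] at h1
      obtain ⟨p, hp⟩ := h.q_even
      obtain ⟨c, hc⟩ := h1
      have : (4 : ℤ) ∣ 2 := ⟨(p : ℤ) + 2 * p * c, by rw [hp] at hc; linarith⟩
      norm_num at this
  -- the block of the quotient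
  obtain ⟨Bq, hBq, hsub, hdef⟩ := BlockUnion.exists_block_quot Z hM hZp hB
  refine (blockRank_le_quotient hM Z hZc hZp hB hBq hsub).trans ?_
  haveI : Fintype (G ⧸ Z) := Fintype.ofFinite _
  have hPq : IsDefectGroup 2 M Bq (P.map (QuotientGroup.mk' Z)) := (hdef _).2 ⟨P, hP, rfl⟩
  set π := QuotientGroup.mk' Z with hπ
  obtain ⟨e, he⟩ := NilBlock.exists_maximal hM hBq hPq
  have hker : ∀ w : P, π (w : G) = 1 ↔ w = 1 ∨ w = x ^ (2 ^ (m - 1)) := by
    intro w
    rw [hπ, QuotientGroup.mk'_apply, QuotientGroup.eq_one_iff]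
    constructor
    · intro hw
      obtain ⟨i, hi⟩ := mem_powers_iff_mem_zpowers.2 hw
      change z ^ i = (w : G) at hi
      rw [← pow_mod_orderOf, hz2] at hi
      rcases Nat.mod_two_eq_zero_or_one i with h1 | h1 <;> rw [h1] at hi
      · exact Or.inl (Subtype.ext (by rw [← hi, pow_zero]; rfl))
      · exact Or.inr (by rw [← hzx]; exact Subtype.ext (by rw [← hi, pow_one]))
    · rintro (rfl | rfl)
      · exact one_mem _
      · rw [← hzx]; exact Subgroup.mem_zpowers z
  set q := 2 ^ (m - 2) with hq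
  have hh : 2 ^ (m - 1) = 2 * q := h.half_eq
  have hm' : 2 ^ m = 4 * q := by
    rw [hq, show (4 : ℕ) = 2 ^ 2 by norm_num, ← pow_add]
    congr 1
    omega
  have hq2 : 2 ≤ q := le_self_pow₀ (by norm_num : (1 : ℕ) ≤ 2) (by omega)
  have hxk : ∀ k : ℕ, π ((x : P) : G) ^ k = 1 ↔ 2 * q ∣ k := by
    intro k
    rw [← map_pow, ← Subgroup.coe_pow, hker, ← orderOf_dvd_iff_pow_eq_one, h.ord_x, hm']
    constructor
    · rintro (h1 | h1)
      · exact Dvd.dvd.trans ⟨2, by ring⟩ h1
      · rw [pow_eq_pow_iff_modEq, h.ord_x, hm', hh] at h1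
        have h2 : k ≡ 0 [MOD 2 * q] :=
          (h1.of_dvd ⟨2, by ring⟩).trans (by simp [Nat.ModEq])
        exact Nat.modEq_zero_iff_dvd.1 h2
    · rintro ⟨c, rfl⟩
      rcases Nat.even_or_odd' c with ⟨c', rfl | rfl⟩
      · exact Or.inl ⟨c', by ring⟩
      · refine Or.inr ?_
        rw [pow_eq_pow_iff_modEq, h.ord_x, hm', hh]
        show (2 * q * (2 * c' + 1)) % (4 * q) = (2 * q) % (4 * q)
        rw [show 2 * q * (2 * c' + 1) = 2 * q + 4 * q * c' by ring, Nat.add_mul_mod_self_left]
  have hordx : orderOf (π ((x : P) : G)) = 2 * q := by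
    refine (orderOf_eq_iff (by omega)).2 ⟨(hxk _).2 dvd_rfl, fun k hk hk0 h1 => ?_⟩
    exact absurd (Nat.le_of_dvd hk0 ((hxk k).1 h1)) (by omega)
  have hyk : π ((y : P) : G) ≠ 1 := fun h1 => by
    rcases (hker y).1 h1 with h2 | h2
    · exact h.y_not_mem (h2 ▸ one_mem _)
    · exact h.y_not_mem (h2 ▸ Subgroup.npow_mem_zpowers x _)
  have hyy : π ((y : P) : G) * π ((y : P) : G) = 1 := by
    rw [← map_mul, ← Subgroup.coe_mul, h.y_mul_y, Subgroup.coe_one, map_one]
  have hzmem : ∀ a : ℤ, π ((x ^ a : P) : G) ∈ Subgroup.zpowers (π ((x : P) : G)) := fun a => by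
    rw [Subgroup.coe_zpow, map_zpow]; exact Subgroup.zpow_mem_zpowers _ a
  have hyn : π ((y : P) : G) ∉ Subgroup.zpowers (π ((x : P) : G)) := by
    rintro ⟨i, hi⟩
    change π ((x : P) : G) ^ i = _ at hi
    rw [← map_zpow, ← Subgroup.coe_zpow, hπ, QuotientGroup.mk'_apply, QuotientGroup.mk'_apply,
      QuotientGroup.eq] at hi
    have h1 : π (((x ^ i)⁻¹ * y : P) : G) = 1 := by
      rw [hπ, QuotientGroup.mk'_apply, QuotientGroup.eq_one_iff]; exact hi
    rcases (hker _).1 h1 with h2 | h2
    · exact h.y_not_mem (inv_mul_eq_one.1 h2 ▸ Subgroup.zpow_mem_zpowers x i)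
    · rw [inv_mul_eq_iff_eq_mul] at h2
      exact h.y_not_mem (h2 ▸ mul_mem (Subgroup.zpow_mem_zpowers x i)
        (Subgroup.npow_mem_zpowers x _))
  have D : Dih (P.map π) (π ((x : P) : G)) (π ((y : P) : G)) q :=
    { two_le := hq2
      isPow := ⟨m - 2, rfl⟩
      σ_mem := Subgroup.mem_map_of_mem π x.2
      τ_mem := Subgroup.mem_map_of_mem π y.2
      orderσ := hordx
      ττ := hyy
      rel := by
        have h1 : π ((y : P) : G) * π ((x : P) : G) * π ((y : P) : G) =
            π ((y * x * y⁻¹ : P) : G) := by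
          simp only [Subgroup.coe_mul, map_mul, h.y_inv]
        have hle : 1 ≤ 2 * q := by omega
        rw [h1, h.conj, hh, Subgroup.coe_pow, map_pow]
        refine eq_inv_of_mul_eq_one_left ?_
        rw [← pow_succ, Nat.sub_add_cancel hle]
        exact (hxk _).2 dvd_rfl
      decomp := by
        rintro _ ⟨w, hw, rfl⟩
        obtain ⟨a, ha | ha⟩ := h.cases_mem ⟨w, hw⟩
        · left
          rw [show w = ((x ^ a : P) : G) from congrArg Subtype.val ha]
          exact hzmem a
        · right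
          rw [← map_mul, show ((y : P) : G) * w = ((y * (x ^ a * y) : P) : G) by
            rw [Subgroup.coe_mul, show w = ((x ^ a * y : P) : G) from congrArg Subtype.val ha],
            ← mul_assoc, h.y_mul_zpow, mul_assoc, h.y_mul_y, mul_one]
          exact hzmem _
      τ_notMem := hyn
      card := by
        set φ := π.comp P.subtype with hφ
        have hrange : φ.range = P.map π := by
          rw [hφ, MonoidHom.range_comp, Subgroup.range_subtype]
        have hk : φ.ker = Z.subgroupOf P := by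
          rw [hφ, ← MonoidHom.comap_ker, hπ, QuotientGroup.ker_mk']
          rfl
        have hcm := Subgroup.card_mul_index φ.ker
        rw [Subgroup.index_ker, hrange, hk,
          Nat.card_congr (Subgroup.subgroupOfEquivOfLe (Subgroup.zpowers_le.2 hzP : Z ≤ P)).toEquiv,
          Nat.card_zpowers, hz2, h.card, pow_succ, hm'] at hcm
        omega }
  refine rank_le_two hM (b := ⟨P.map π, e⟩) he D D.τ_mem
    (orderOf_eq_prime (by rw [pow_two, hyy]) hyk) fun hc => ?_
  obtain ⟨g, hg⟩ := isConj_iff.1 hc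
  obtain ⟨g, rfl⟩ := QuotientGroup.mk'_surjective Z g
  -- a lift of the conjugate squares to one, the middle rotation does not
  have h1 : g * ((y : P) : G) * g⁻¹ * (((x : P) : G) ^ q)⁻¹ ∈ Z := by
    rw [← QuotientGroup.eq_one_iff]
    show π _ = 1
    rw [map_mul, map_mul, map_mul, map_inv, map_inv, map_pow, hg, mul_inv_cancel]
  obtain ⟨i, hi⟩ := mem_powers_iff_mem_zpowers.2 h1
  change z ^ i = _ at hi
  rw [eq_mul_inv_iff_mul_eq] at hi
  have hzc : Commute (z ^ i) (((x : P) : G) ^ q) :=
    (Subgroup.mem_center_iff.1 (pow_mem hz i) _).symm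
  have h2 : (g * ((y : P) : G) * g⁻¹) * (g * ((y : P) : G) * g⁻¹) = 1 := by
    rw [show (g * ((y : P) : G) * g⁻¹) * (g * ((y : P) : G) * g⁻¹) =
      g * (((y : P) : G) * ((y : P) : G)) * g⁻¹ by group, ← Subgroup.coe_mul, h.y_mul_y,
      Subgroup.coe_one, mul_one, mul_inv_cancel]
  rw [← hi, ← pow_two, hzc.mul_pow, ← pow_mul, ← pow_mul, mul_comm i, pow_mul z, ← hz2,
    pow_orderOf_eq_one, one_pow, one_mul, hz2, ← Subgroup.coe_pow] at h2
  have h3 : x ^ (q * 2) = 1 := Subtype.ext h2
  rw [← orderOf_dvd_iff_pow_eq_one, h.ord_x, hm'] at h3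
  have := Nat.le_of_dvd (by omega) h3
  omega

end Centre

end Cfsg.Agent.Lib.TameRankThree
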