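import Cfsg.Agent.S2879
import Cfsg.Agent.S3116
import Cfsg.Agent.Lib.CharP.Basic
import Cfsg.Agent.Lib.PSolvable.Core
import Cfsg.Agent.Lib.SolvableCore.Basic
import Mathlib

/-!
# Solvable groups with dihedral or semidihedral Sylow 2-subgroup and trivial odd core

All nontrivial elements of odd order are conjugate.
-/

set_option autoImplicit false
set_option linter.unusedSectionVars false
set_option linter.style.haveILetI false

namespace Cfsg.Agent.Lib.TameRankThree

open Finset
open Cfsg.Agent.Lib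

universe u

variable {G : Type u} [Group G] [Finite G]

attribute [local instance] Classical.propDecidable

/-- The properties of the maximal cyclic subgroup of a dihedral or semidihedral Sylow subgroup
that are used: index two, the outer elements have order dividing four and invert the elements of
order dividing four. -/
structure TameSylow (S : Subgroup G) (a : G) : Prop where
  mem : a ∈ S
  index_two : ∀ b c : G, b ∈ S → c ∈ S → b ∉ Subgroup.zpowers a → c ∉ Subgroup.zpowers a →
    b * c ∈ Subgroup.zpowers a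
  outer : ∀ b ∈ S, b ∉ Subgroup.zpowers a →
    b ^ 4 = 1 ∧ ∀ c ∈ Subgroup.zpowers a, c ^ 4 = 1 → b * c * b⁻¹ = c⁻¹

theorem exists_tameSylow (S : Sylow 2 G)
    (hS : (∃ n : ℕ, 4 ≤ n ∧ Nonempty (↥(S : Subgroup G) ≃* DihedralGroup n)) ∨
      Cfsg.IsQuasiDihedral ↥(S : Subgroup G)) : ∃ a : G, TameSylow (S : Subgroup G) a := by
  obtain ⟨⟨a, haT⟩, hidx', -, hb'⟩ := Cfsg.Agent.S2879.exists_cyclic S.2 hS
  have hmem : ∀ b : (S : Subgroup G), b ∈ Subgroup.zpowers (⟨a, haT⟩ : (S : Subgroup G)) ↔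
      (b : G) ∈ Subgroup.zpowers a := by
    intro b
    constructor
    · rintro ⟨k, rfl⟩; exact ⟨k, by simp⟩
    · rintro ⟨k, hk⟩; exact ⟨k, Subtype.ext (by simpa using hk)⟩
  refine ⟨a, haT, fun b c hb hc hb₁ hc₁ =>
    (hmem _).1 (hidx' ⟨b, hb⟩ ⟨c, hc⟩ (mt (hmem _).1 hb₁) (mt (hmem _).1 hc₁)),
    fun b hbT hbn => ?_⟩
  obtain ⟨h1, h2⟩ := hb' ⟨b, hbT⟩ (mt (hmem _).1 hbn)
  refine ⟨by simpa using congrArg Subtype.val h1, fun c hc hc4 => ?_⟩
  have hcT : c ∈ (S : Subgroup G) := Subgroup.zpowers_le.2 haT hc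
  exact congrArg Subtype.val (h2 ⟨c, hcT⟩ ((hmem _).2 hc) (Subtype.ext (by simpa using hc4)))

theorem TameSylow.conj_mem {S : Subgroup G} {a : G} (h : TameSylow S a) {s x : G} (hs : s ∈ S)
    (hx : x ∈ Subgroup.zpowers a) : s * x * s⁻¹ ∈ Subgroup.zpowers a := by
  by_cases hsa : s ∈ Subgroup.zpowers a
  · exact mul_mem (mul_mem hsa hx) (inv_mem hsa)
  · have hxS : x ∈ S := Subgroup.zpowers_le.2 h.mem hx
    have h1 : x * s⁻¹ ∉ Subgroup.zpowers a := fun hc => hsa (by
      have h2 := mul_mem (inv_mem hx) hc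
      rw [inv_mul_cancel_left] at h2
      simpa using inv_mem h2)
    simpa [mul_assoc] using h.index_two s (x * s⁻¹) hs (mul_mem hxS (inv_mem hs)) hsa h1

/-- An element of odd order that moves the cyclic part of `O₂` outside it is trivial. -/
theorem eq_one_of_conj_mem (hC : Subgroup.centralizer (Cfsg.pCore 2 G : Set G) ≤ Cfsg.pCore 2 G)
    {S : Sylow 2 G} {a : G} (hT : TameSylow (S : Subgroup G) a) {d : G}
    (hd : Cfsg.pCore 2 G ⊓ Subgroup.zpowers a = Subgroup.zpowers d) {x : G}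
    (hxo : (orderOf x).Coprime 2) (h : x * d * x⁻¹ ∈ Subgroup.zpowers a) : x = 1 := by
  haveI : Fact (Nat.Prime 2) := ⟨Nat.prime_two⟩
  set F := Cfsg.pCore 2 G with hF
  have hFp : IsPGroup 2 F := PSolvable.pCore_isPGroup
  have hFS : F ≤ (S : Subgroup G) := PSolvable.pCore_le_sylow S
  have hdD : d ∈ F ⊓ Subgroup.zpowers a := hd ▸ Subgroup.mem_zpowers d
  have hgen : ∀ u ∈ F ⊓ Subgroup.zpowers a, u ∈ Subgroup.zpowers d := fun u hu => hd ▸ hu
  obtain ⟨j, hj⟩ := IsPGroup.iff_orderOf.1 hFp ⟨d, hdD.1⟩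
  rw [← Subgroup.orderOf_coe] at hj
  have hgF : x * d * x⁻¹ ∈ F := (inferInstance : F.Normal).conj_mem d hdD.1 x
  have hcd : Commute x d := Cfsg.Agent.S2879.commute_of_conj_mem_zpowers hj hxo (hgen _ ⟨hgF, h⟩)
  have hxD : ∀ u ∈ F ⊓ Subgroup.zpowers a, Commute u x := fun u hu => by
    obtain ⟨k, rfl⟩ := hgen u hu
    exact (hcd.zpow_right k).symm
  refine CharP.eq_one_of_centralizes_pCore hC hxo fun f hf => ?_
  by_cases hfa : f ∈ Subgroup.zpowers a
  · exact hxD f ⟨hf, hfa⟩
  have hfc : x * f * x⁻¹ ∈ F := (inferInstance : F.Normal).conj_mem f hf x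
  have hfca : x * f * x⁻¹ ∉ Subgroup.zpowers a := fun h => by
    apply hfa
    have he : f = x * f * x⁻¹ := by
      have h2 : Commute (x * f * x⁻¹) x⁻¹ := (hxD _ ⟨hfc, h⟩).inv_right
      calc f = x⁻¹ * (x * f * x⁻¹) * x := by group
        _ = (x * f * x⁻¹) * x⁻¹ * x := by rw [h2.eq]
        _ = x * f * x⁻¹ := by group
    exact he ▸ h
  refine CharP.commute_of_commutator_mem (C := F ⊓ Subgroup.zpowers a) (hFp.to_le inf_le_left) hxo
    (Subgroup.mem_centralizer_iff.2 fun u hu => (hxD u hu).eq) ?_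
  have hfc' : (x * f * x⁻¹)⁻¹ ∉ Subgroup.zpowers a := fun h => hfca (inv_mem_iff.1 h)
  have h1 := hT.index_two f _ (hFS hf) (hFS (F.inv_mem hfc)) hfa hfc'
  have h2 : f * (x * f * x⁻¹)⁻¹ = f * x * f⁻¹ * x⁻¹ := by group
  rw [← h2]
  exact ⟨mul_mem hf (F.inv_mem hfc), h1⟩

theorem exists_pow_lt {d x : G} (h : x ∈ Subgroup.zpowers d) : ∃ k < orderOf d, d ^ k = x := by
  obtain ⟨k, hk⟩ := Submonoid.mem_powers_iff _ _ |>.1
    ((isOfFinOrder_of_finite d).mem_powers_iff_mem_zpowers.2 h)
  exact ⟨k % orderOf d, Nat.mod_lt _ (orderOf_pos d), by rw [pow_mod_orderOf, hk]⟩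

/-- The Sylow subgroup has index at most three. -/
theorem index_le_three (hC : Subgroup.centralizer (Cfsg.pCore 2 G : Set G) ≤ Cfsg.pCore 2 G)
    {S : Sylow 2 G} {a : G} (hT : TameSylow (S : Subgroup G) a) {g : G}
    (hgo : (orderOf g).Coprime 2) (hg : g ≠ 1) : (S : Subgroup G).index ≤ 3 := by
  haveI : Fact (Nat.Prime 2) := ⟨Nat.prime_two⟩
  set F := Cfsg.pCore 2 G with hF
  have hFp : IsPGroup 2 F := PSolvable.pCore_isPGroup
  have hFS : F ≤ (S : Subgroup G) := PSolvable.pCore_le_sylow S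
  set D := F ⊓ Subgroup.zpowers a with hD
  haveI : IsCyclic D :=
    isCyclic_of_injective (Subgroup.inclusion (inf_le_right : D ≤ Subgroup.zpowers a))
      (Subgroup.inclusion_injective _)
  obtain ⟨⟨d, hdD⟩, hgen⟩ := IsCyclic.exists_generator (α := D)
  have hd : D = Subgroup.zpowers d := le_antisymm (fun u hu => by
      obtain ⟨k, hk⟩ := hgen ⟨u, hu⟩
      exact ⟨k, by simpa using congrArg Subtype.val hk⟩) (Subgroup.zpowers_le.2 hdD)
  set b := g * d * g⁻¹ with hb
  have hbF : b ∈ F := (inferInstance : F.Normal).conj_mem d hdD.1 g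
  have hba : b ∉ Subgroup.zpowers a := fun h => hg (eq_one_of_conj_mem hC hT hd hgo h)
  obtain ⟨hb4, hbinv⟩ := hT.outer b (hFS hbF) hba
  have hd4 : d ^ 4 = 1 := by
    have : g * d ^ 4 * g⁻¹ = 1 := by rw [← conj_pow]; exact hb4
    simpa [mul_eq_one_iff_eq_inv] using this
  have hd1 : d ≠ 1 := fun h => hba (by rw [hb, h, mul_one, mul_inv_cancel]; exact one_mem _)
  have hbd : b * d * b⁻¹ = d⁻¹ := hbinv d hdD.2 hd4
  -- the centralizer of `d` lies in `S`
  set N := Subgroup.normalizer (Subgroup.zpowers d : Set G) with hN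
  have hNS : N = (S : Subgroup G) := by
    refine S.3 (CharP.isPGroup_of_forall fun y hy hyo => ?_) fun s hs => ?_
    · exact eq_one_of_conj_mem hC hT hd hyo
        (Subgroup.zpowers_le.2 hdD.2 ((Subgroup.mem_normalizer_iff.1 hy d).1 (Subgroup.mem_zpowers d)))
    · refine Subgroup.mem_normalizer_iff.2 fun u => ?_
      rw [← hd]
      constructor
      · exact fun hu => ⟨(inferInstance : F.Normal).conj_mem u hu.1 s, hT.conj_mem hs hu.2⟩
      · intro hu
        have h1 := (inferInstance : F.Normal).conj_mem _ hu.1 s⁻¹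
        have h2 := hT.conj_mem (inv_mem hs) hu.2
        simp only [inv_inv, mul_assoc, inv_mul_cancel_left, inv_mul_cancel, mul_one] at h1 h2
        exact ⟨h1, h2⟩
  set C := Subgroup.centralizer ({d} : Set G) with hCd
  have hCS : C ≤ (S : Subgroup G) := by
    intro y hy
    rw [← hNS]
    have hyd : ∀ k : ℤ, y * d ^ k * y⁻¹ = d ^ k := fun k => by
      have h1 : Commute y d := (Subgroup.mem_centralizer_singleton_iff.1 hy : y * d = d * y)
      rw [(h1.zpow_right k).eq, mul_inv_cancel_right]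
    refine Subgroup.mem_normalizer_iff.2 fun u => ⟨?_, ?_⟩
    · rintro ⟨k, rfl⟩
      exact ⟨k, (hyd k).symm⟩
    · rintro ⟨k, hk : d ^ k = y * u * y⁻¹⟩
      refine ⟨k, ?_⟩
      show d ^ k = u
      calc d ^ k = y⁻¹ * (y * d ^ k * y⁻¹) * y := by group
        _ = y⁻¹ * (y * u * y⁻¹) * y := by rw [hyd k, hk]
        _ = u := by group
  -- the conjugates of `d`
  let f : G ⧸ C → {x : G // x ∈ F ∧ orderOf x = orderOf d} := fun q =>
    ⟨q.out * d * q.out⁻¹, (inferInstance : F.Normal).conj_mem d hdD.1 _,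
      orderOf_injective (MulAut.conj q.out).toMonoidHom (MulAut.conj q.out).injective d⟩
  have hf : Function.Injective f := by
    intro q r hqr
    have h1 : q.out * d * q.out⁻¹ = r.out * d * r.out⁻¹ := congrArg Subtype.val hqr
    rw [← QuotientGroup.out_eq' q, ← QuotientGroup.out_eq' r]
    refine QuotientGroup.eq.2 (Subgroup.mem_centralizer_singleton_iff.2 ?_)
    calc q.out⁻¹ * r.out * d = q.out⁻¹ * (r.out * d * r.out⁻¹) * r.out := by group
      _ = q.out⁻¹ * (q.out * d * q.out⁻¹) * r.out := by rw [h1]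
      _ = d * (q.out⁻¹ * r.out) := by group
  have hindex : C.index ≤ Nat.card {x : G // x ∈ F ∧ orderOf x = orderOf d} :=
    Nat.card_le_card_of_injective f hf
  -- count
  haveI : Fintype G := Fintype.ofFinite G
  set T : Finset G := Finset.univ.filter (fun x => x ∈ F ∧ orderOf x = orderOf d) with hTdef
  have hTcard : Nat.card {x : G // x ∈ F ∧ orderOf x = orderOf d} = T.card :=
    Nat.subtype_card T (fun x => by simp [hTdef])
  set Dset : Finset G := Finset.univ.filter (fun x => x ∈ D) with hDset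
  have hDcard : Dset.card = orderOf d := by
    rw [← Nat.card_zpowers, ← hd]
    exact (Nat.subtype_card Dset (fun x => by simp [hDset])).symm
  have hout : (T.filter (fun x => x ∉ Subgroup.zpowers a)).card ≤ orderOf d := by
    rw [← hDcard]
    refine Finset.card_le_card_of_injOn (fun x => b * x) (fun x hx => ?_)
      (fun x _ y _ h => mul_left_cancel h)
    simp only [hTdef, Finset.coe_filter, Set.mem_setOf_eq, Finset.mem_filter, Finset.mem_univ,
      true_and] at hx
    simp only [hDset, Finset.coe_filter, Set.mem_setOf_eq, Finset.mem_univ, true_and]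
    exact ⟨mul_mem hbF hx.1.1, hT.index_two b x (hFS hbF) (hFS hx.1.1) hba hx.2⟩
  have hidx : (S : Subgroup G).index * (C.relIndex (S : Subgroup G)) = C.index := by
    rw [mul_comm, Subgroup.relIndex_mul_index hCS]
  have hdvd : orderOf d ∣ 4 := orderOf_dvd_of_pow_eq_one hd4
  have hcases : orderOf d = 2 ∨ orderOf d = 4 := by
    have key : ∀ r : ℕ, r ≠ 1 → r ∣ 4 → r = 2 ∨ r = 4 := fun r h1 h2 => by
      have := Nat.le_of_dvd (by norm_num) h2
      interval_cases r <;> omega
    exact key _ (fun h => hd1 (orderOf_eq_one_iff.1 h)) hdvd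
  have hsplit := Finset.card_filter_add_card_filter_not (s := T)
    (fun x => x ∈ Subgroup.zpowers a)
  have hin : ∀ x ∈ T.filter (fun x => x ∈ Subgroup.zpowers a),
      ∃ k < orderOf d, d ^ k = x ∧ orderOf (d ^ k) = orderOf d := by
    intro x hx
    simp only [hTdef, Finset.mem_filter, Finset.mem_univ, true_and] at hx
    have h1 : x ∈ Subgroup.zpowers d := hd ▸ (⟨hx.1.1, hx.2⟩ : x ∈ D)
    obtain ⟨k, hk, rfl⟩ := exists_pow_lt h1
    exact ⟨k, hk, rfl, hx.1.2⟩
  rw [hTcard] at hindex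
  rcases hcases with h2 | h4
  · have hi : (T.filter (fun x => x ∈ Subgroup.zpowers a)).card ≤ 1 := by
      refine (Finset.card_le_card (t := {d}) fun x hx => ?_).trans (by simp)
      obtain ⟨k, hk, rfl, hko⟩ := hin x hx
      rw [h2] at hk hko
      interval_cases k
      · simp at hko
      · simp
    have h3 : 0 < C.relIndex (S : Subgroup G) := Nat.pos_of_ne_zero fun h => by
      rw [h, mul_zero] at hidx
      exact Subgroup.index_ne_zero_of_finite hidx.symm
    have h4 : (S : Subgroup G).index ≤ C.index := hidx ▸ Nat.le_mul_of_pos_right _ h3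
    omega
  · have hi : (T.filter (fun x => x ∈ Subgroup.zpowers a)).card ≤ 2 := by
      refine (Finset.card_le_card (t := {d, d ^ 3}) fun x hx => ?_).trans Finset.card_le_two
      obtain ⟨k, hk, rfl, hko⟩ := hin x hx
      rw [h4] at hk hko
      interval_cases k
      · simp at hko
      · simp
      · exfalso
        rw [orderOf_pow, h4] at hko
        norm_num at hko
      · simp
    have h3 : 2 ≤ C.relIndex (S : Subgroup G) := by
      by_contra h
      have h5 : C.relIndex (S : Subgroup G) = 0 ∨ C.relIndex (S : Subgroup G) = 1 := by omega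
      rcases h5 with h5 | h5
      · rw [h5, mul_zero] at hidx
        exact Subgroup.index_ne_zero_of_finite hidx.symm
      · have hbC : b ∈ C := Subgroup.relIndex_eq_one.1 h5 (hFS hbF)
        have h6 : b * d = d * b := Subgroup.mem_centralizer_singleton_iff.1 hbC
        rw [h6, mul_inv_cancel_right] at hbd
        have h7 : d ^ 2 = 1 := by rw [pow_two]; nth_rw 2 [hbd]; rw [mul_inv_cancel]
        have := Nat.le_of_dvd (by norm_num) (orderOf_dvd_of_pow_eq_one h7)
        omega
    have h5 : (S : Subgroup G).index * 2 ≤ C.index := hidx ▸ Nat.mul_le_mul_left _ h3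
    omega

/-- In a solvable group with trivial odd core and dihedral or semidihedral Sylow `2`-subgroup all
nontrivial elements of odd order are conjugate. -/
theorem exists_forall_isConj (hs : Group.IsSolvable G) (hO : Cfsg.pPrimeCore 2 G = ⊥)
    (S : Sylow 2 G)
    (hS : (∃ n : ℕ, 4 ≤ n ∧ Nonempty (↥(S : Subgroup G) ≃* DihedralGroup n)) ∨
      Cfsg.IsQuasiDihedral ↥(S : Subgroup G)) :
    ∃ a : G, ∀ g : G, (orderOf g).Coprime 2 → g = 1 ∨ IsConj a g := by
  haveI : Fact (Nat.Prime 2) := ⟨Nat.prime_two⟩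
  haveI : Fact (Nat.Prime 3) := ⟨Nat.prime_three⟩
  by_cases hex : ∀ g : G, (orderOf g).Coprime 2 → g = 1
  · exact ⟨1, fun g hg => Or.inl (hex g hg)⟩
  obtain ⟨a₃, ha₃o, ha₃⟩ : ∃ g : G, (orderOf g).Coprime 2 ∧ g ≠ 1 := by
    simpa using hex
  obtain ⟨a, hT⟩ := exists_tameSylow S hS
  have hC := SolvableCore.centralizer_pCore_le hs hO
  obtain ⟨m, hm⟩ := IsPGroup.iff_card.1 S.2
  have hcard : Nat.card G = (S : Subgroup G).index * 2 ^ m := by
    rw [← hm, mul_comm, Subgroup.card_mul_index]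
  have hdiv : ∀ g : G, (orderOf g).Coprime 2 → orderOf g ∣ (S : Subgroup G).index := fun g hg =>
    (hg.pow_right m).dvd_of_dvd_mul_right (hcard ▸ orderOf_dvd_natCard g)
  have hindex : (S : Subgroup G).index = 3 := by
    have h1 := index_le_three hC hT ha₃o ha₃
    have h2 : ¬ 2 ∣ (S : Subgroup G).index := S.not_dvd_index
    have h3 : (S : Subgroup G).index ≠ 1 := fun h =>
      ha₃ (orderOf_eq_one_iff.1 (Nat.dvd_one.1 (h ▸ hdiv a₃ ha₃o)))
    omega
  have hthree : ∀ g : G, (orderOf g).Coprime 2 → g ≠ 1 → orderOf g = 3 := fun g hg hg1 => by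
    rcases (Nat.dvd_prime Nat.prime_three).1 (hindex ▸ hdiv g hg) with h | h
    · exact absurd (orderOf_eq_one_iff.1 h) hg1
    · exact h
  have hcyc : ∀ g : G, orderOf g = 3 →
      Nat.card (Subgroup.zpowers g) = 3 ^ (Nat.card G).factorization 3 := by
    intro g hg
    have h1 : (Nat.card G).factorization 3 = 1 := by
      rw [hcard, hindex, Nat.factorization_mul (by norm_num) (by positivity), Finsupp.add_apply,
        Nat.Prime.factorization_self Nat.prime_three, Nat.Prime.factorization_pow Nat.prime_two]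
      simp
    rw [Nat.card_zpowers, hg, h1, pow_one]
  have ha₃3 := hthree a₃ ha₃o ha₃
  set Q : Sylow 3 G := Sylow.ofCard (Subgroup.zpowers a₃) (hcyc a₃ ha₃3) with hQ
  have hQc : (Q : Subgroup G) = Subgroup.zpowers a₃ := rfl
  have hpows : ∀ u ∈ Subgroup.zpowers a₃, u = 1 ∨ u = a₃ ∨ u = a₃⁻¹ := by
    intro u hu
    obtain ⟨k, hk, rfl⟩ := exists_pow_lt hu
    rw [ha₃3] at hk
    interval_cases k
    · simp
    · simp
    · refine Or.inr (Or.inr (eq_inv_of_mul_eq_one_left ?_))
      rw [← pow_succ, show 2 + 1 = orderOf a₃ from ha₃3.symm, pow_orderOf_eq_one]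
  have hinv : IsConj a₃ a₃⁻¹ := by
    by_contra hni
    have hNC : Subgroup.normalizer (Q : Set G) ≤ Subgroup.centralizer (Q : Set G) := by
      intro y hy
      have h1 : y * a₃ * y⁻¹ ∈ Subgroup.zpowers a₃ :=
        (Subgroup.mem_normalizer_iff.1 hy a₃).1 (Subgroup.mem_zpowers a₃)
      rcases hpows _ h1 with h | h | h
      · exact absurd (conj_eq_one_iff.1 h) ha₃
      · refine Subgroup.mem_centralizer_iff.2 fun u hu => ?_
        obtain ⟨k, rfl⟩ := (hu : u ∈ Subgroup.zpowers a₃)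
        have hya : Commute y a₃ := mul_inv_eq_iff_eq_mul.1 h
        exact (hya.zpow_right k).eq.symm
      · exact absurd (isConj_iff.2 ⟨y, h⟩) hni
    set K := (MonoidHom.transferSylow Q hNC).ker with hK
    have hKc : Subgroup.IsComplement' K (Q : Subgroup G) :=
      MonoidHom.ker_transferSylow_isComplement' Q hNC
    have hKcard : Nat.card K = 2 ^ m := by
      have h1 := hKc.card_mul
      rw [hcard, hindex, show Nat.card (Q : Subgroup G) = 3 by
        rw [hQc, Nat.card_zpowers, ha₃3]] at h1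
      omega
    have hKp : IsPGroup 2 K := IsPGroup.of_card hKcard
    have hKF : K ≤ Cfsg.pCore 2 G := PSolvable.le_pCore hKp
    have hFS : Cfsg.pCore 2 G = (S : Subgroup G) :=
      Subgroup.eq_of_le_of_card_ge (PSolvable.pCore_le_sylow S)
        (by rw [hm, ← hKcard]; exact Subgroup.card_le_of_le hKF)
    have haut : IsPGroup 2 (MulAut (Cfsg.pCore 2 G)) := by
      rw [hFS]
      exact Cfsg.Agent.S3116.result S.2 hS
    obtain ⟨k, hk⟩ := haut (MulAut.conjNormal a₃)
    have h3 : (MulAut.conjNormal a₃ : MulAut (Cfsg.pCore 2 G)) ^ 3 = 1 := by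
      rw [← map_pow, ← ha₃3, pow_orderOf_eq_one, map_one]
    have h1 : (MulAut.conjNormal a₃ : MulAut (Cfsg.pCore 2 G)) = 1 := by
      have := (pow_gcd_eq_one (a := (MulAut.conjNormal a₃ : MulAut (Cfsg.pCore 2 G)))
        (m := 2 ^ k) (n := 3)).2 ⟨hk, h3⟩
      rwa [show Nat.gcd (2 ^ k) 3 = 1 from Nat.Coprime.pow_left k (by norm_num), pow_one] at this
    refine ha₃ (CharP.eq_one_of_centralizes_pCore hC ha₃o fun r hr => ?_)
    have h4 : a₃ * r * a₃⁻¹ = r := by
      have := congrArg (fun e : MulAut (Cfsg.pCore 2 G) => ((e ⟨r, hr⟩ : Cfsg.pCore 2 G) : G)) h1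
      simpa using this
    exact (mul_inv_eq_iff_eq_mul.1 h4).symm
  refine ⟨a₃, fun g hg => ?_⟩
  by_cases hg1 : g = 1
  · exact Or.inl hg1
  obtain ⟨y, hy⟩ := MulAction.exists_smul_eq G Q
    (Sylow.ofCard (Subgroup.zpowers g) (hcyc g (hthree g hg hg1)) : Sylow 3 G)
  have hgy : g ∈ ((y • Q : Sylow 3 G) : Subgroup G) := by
    rw [hy]; exact Subgroup.mem_zpowers g
  rw [Sylow.coe_subgroup_smul, hQc, Subgroup.mem_pointwise_smul_iff_inv_smul_mem] at hgy
  have hgy' : y⁻¹ * g * y ∈ Subgroup.zpowers a₃ := by simpa using hgy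
  refine Or.inr ?_
  rcases hpows _ hgy' with h | h | h
  · exact absurd (by
      calc g = y * (y⁻¹ * g * y) * y⁻¹ := by group
        _ = 1 := by rw [h]; group) hg1
  · exact isConj_iff.2 ⟨y, by rw [← h]; group⟩
  · exact hinv.trans (isConj_iff.2 ⟨y, by rw [← h]; group⟩)

end Cfsg.Agent.Lib.TameRankThree
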