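import Cfsg.Agent.Lib.TameRankThree.Group
import Cfsg.Agent.Lib.BlockUnion.Stabilizer
import Cfsg.Agent.Lib.Blocks.StableCharacter
import Cfsg.Agent.Lib.CharExt.Characters
import Cfsg.Agent.Lib.Clifford.Gallagher
import Cfsg.Agent.Lib.PSolvable.PSolv
import Cfsg.Agent.S4492
import Mathlib

/-!
# Tame blocks of solvable groups have 2-rank at most two
-/

set_option autoImplicit false
set_option linter.unusedSectionVars false
set_option linter.style.haveILetI false

namespace Cfsg.Agent.Lib.TameRankThree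

open Finset Cfsg
open Cfsg.Agent.Lib Cfsg.Agent.Lib.Blocks
open Cfsg.Agent.Lib.Clifford (conjFun resFun)
open Cfsg.Agent.Lib.Blocks.StableChar (inertia mem_inertia)

universe u

attribute [local instance] Classical.propDecidable

/-- Dihedral of order at least eight, or semidihedral. -/
def TameDefect (D : Type*) [Group D] : Prop :=
  (∃ n : ℕ, 3 ≤ n ∧ Nonempty (D ≃* DihedralGroup (2 ^ (n - 1)))) ∨ Cfsg.IsQuasiDihedral D

theorem TameDefect.of_equiv {D D' : Type*} [Group D] [Group D'] (e : D ≃* D')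
    (h : TameDefect D) : TameDefect D' := by
  rcases h with ⟨n, hn, ⟨f⟩⟩ | ⟨n, hn, hcard, x, y, hx, hy, hxy⟩
  · exact Or.inl ⟨n, hn, ⟨e.symm.trans f⟩⟩
  · exact Or.inr ⟨n, hn, by rw [← Nat.card_congr e.toEquiv, hcard], e x, e y,
      by rw [MulEquiv.orderOf_eq, hx], by rw [MulEquiv.orderOf_eq, hy],
      by rw [← map_inv, ← map_mul, ← map_mul, hxy, map_pow]⟩

theorem TameDefect.sylow_hyp {D : Type*} [Group D] (h : TameDefect D) :
    (∃ n : ℕ, 4 ≤ n ∧ Nonempty (D ≃* DihedralGroup n)) ∨ Cfsg.IsQuasiDihedral D := by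
  rcases h with ⟨n, hn, hf⟩ | h
  · refine Or.inl ⟨_, ?_, hf⟩
    calc 4 = 2 ^ 2 := by norm_num
      _ ≤ 2 ^ (n - 1) := Nat.pow_le_pow_right (by norm_num) (by omega)
  · exact Or.inr h

section Induced

variable {G : Type u} [Group G] [Fintype G] (T : Subgroup G) [Fintype T] {p : ℕ}

/-- Induction commutes with restriction to the `p`-regular elements. -/
theorem indFun_pRegularPart (f : T → ℂ) :
    indFun T (pRegularPart p f) = pRegularPart p (indFun T f) := by
  funext g
  simp only [indFun, pRegularPart]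
  by_cases hg : IsPRegular p g
  · rw [if_pos hg]
    congr 1
    refine Finset.sum_congr rfl fun x _ => ?_
    by_cases hm : x⁻¹ * g * x ∈ T
    · rw [Chars.extendByZero_of_mem _ hm, Chars.extendByZero_of_mem _ hm]
      simp only [pRegularPart]
      rw [if_pos]
      have ho : orderOf (x⁻¹ * g * x) = orderOf g := by
        simpa using orderOf_injective (MulAut.conj x⁻¹).toMonoidHom (MulAut.conj x⁻¹).injective g
      show ¬ p ∣ orderOf (⟨x⁻¹ * g * x, hm⟩ : T)
      rw [Subgroup.orderOf_mk, ho]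
      exact hg
    · rw [Chars.extendByZero_of_not_mem _ hm, Chars.extendByZero_of_not_mem _ hm]
  · rw [if_neg hg, Finset.sum_eq_zero, mul_zero]
    intro x _
    by_cases hm : x⁻¹ * g * x ∈ T
    · rw [Chars.extendByZero_of_mem _ hm]
      simp only [pRegularPart]
      rw [if_neg]
      have ho : orderOf (x⁻¹ * g * x) = orderOf g := by
        simpa using orderOf_injective (MulAut.conj x⁻¹).toMonoidHom (MulAut.conj x⁻¹).injective g
      show ¬ ¬ p ∣ orderOf (⟨x⁻¹ * g * x, hm⟩ : T)
      rw [Subgroup.orderOf_mk, ho]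
      exact hg
    · rw [Chars.extendByZero_of_not_mem _ hm]

/-- A set of characters induced from `B'` has rank at most that of `B'`. -/
theorem blockRank_le_of_indFun {B : Set (IrrCharacter G)} {B' : Set (IrrCharacter T)}
    (h : ∀ χ ∈ B, ∃ ψ ∈ B', (χ : G → ℂ) = indFun T (ψ : T → ℂ)) :
    blockRank p B ≤ blockRank p B' := by
  let L : (T → ℂ) →ₗ[ℂ] (G → ℂ) :=
    { toFun := indFun T
      map_add' := Chars.indFun_add T
      map_smul' := Chars.indFun_smul T }
  haveI : FiniteDimensional ℂ (T → ℂ) := inferInstance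
  unfold blockRank
  refine le_trans (Submodule.finrank_mono ?_) (Submodule.finrank_map_le L _)
  rw [Submodule.span_le]
  rintro _ ⟨χ, hχ, rfl⟩
  obtain ⟨ψ, hψ, he⟩ := h χ hχ
  refine ⟨pRegularPart p (ψ : T → ℂ), Submodule.subset_span ⟨ψ, hψ, rfl⟩, ?_⟩
  show indFun T (pRegularPart p (ψ : T → ℂ)) = pRegularPart p (χ : G → ℂ)
  rw [indFun_pRegularPart, he]

end Induced

section Coset

variable {G : Type u} [Group G] [Fintype G] (N : Subgroup G) [hN : N.Normal] [Fintype N]

/-- The characters over an invariant character are proportional on a coset. -/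
theorem exists_proportional_on_coset (θ : IrrCharacter N)
    (hinv : ∀ g : G, conjFun g (θ : N → ℂ) = (θ : N → ℂ)) (a : G) :
    ∃ F : G → ℂ, ∀ χ : IrrCharacter G, classInner (resFun N (χ : G → ℂ)) (θ : N → ℂ) ≠ 0 →
      ∃ c : ℂ, ∀ x : G, (x : G ⧸ N) = (a : G ⧸ N) → (χ : G → ℂ) x = c * F x := by
  set K : Subgroup G := (Subgroup.zpowers (a : G ⧸ N)).comap (QuotientGroup.mk' N) with hKdef
  have hNK : N ≤ K := fun n hn => by
    show (QuotientGroup.mk' N n) ∈ Subgroup.zpowers (a : G ⧸ N)
    rw [QuotientGroup.mk'_apply, (QuotientGroup.eq_one_iff n).2 hn]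
    exact one_mem _
  have hxK : ∀ x : G, (x : G ⧸ N) = (a : G ⧸ N) → x ∈ K := fun x hx => by
    show (QuotientGroup.mk' N x) ∈ Subgroup.zpowers (a : G ⧸ N)
    rw [QuotientGroup.mk'_apply, hx]
    exact Subgroup.mem_zpowers _
  set N' : Subgroup K := N.subgroupOf K with hN'def
  haveI : Fintype K := Fintype.ofFinite K
  haveI : Fintype N' := Fintype.ofFinite N'
  haveI : N'.Normal := inferInstance
  let e : N' ≃* N := Subgroup.subgroupOfEquivOfLe hNK
  let θ' : IrrCharacter N' := ⟨fun x => (θ : N → ℂ) (e x), Chars.isIrrCharacter_comp_mulEquiv e θ.2⟩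
  have he : ∀ x : N', ((e x : N) : G) = ((x : K) : G) := fun x => rfl
  have hθinv : ∀ (k : K) (x : N'),
      (θ' : N' → ℂ) ⟨k * x * k⁻¹, (inferInstance : N'.Normal).conj_mem (x : K) x.2 k⟩ =
        (θ' : N' → ℂ) x := by
    intro k x
    have h := congrFun (hinv (k : G)) (e x)
    refine Eq.trans ?_ h
    show (θ : N → ℂ) _ = (θ : N → ℂ) _
    congr 1
  haveI : IsCyclic (K ⧸ N') := by
    refine ⟨⟨((⟨a, hxK a rfl⟩ : K) : K ⧸ N'), fun q => ?_⟩⟩
    obtain ⟨k, rfl⟩ := QuotientGroup.mk_surjective q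
    obtain ⟨j, hj⟩ := Subgroup.mem_zpowers_iff.1
      (show (QuotientGroup.mk' N (k : G)) ∈ Subgroup.zpowers (a : G ⧸ N) from k.2)
    refine ⟨j, ?_⟩
    show ((⟨a, hxK a rfl⟩ : K) : K ⧸ N') ^ j = (k : K ⧸ N')
    rw [← QuotientGroup.mk_zpow, QuotientGroup.eq, hN'def, Subgroup.mem_subgroupOf]
    rw [← QuotientGroup.eq_one_iff]
    push_cast
    rw [QuotientGroup.mk_mul, QuotientGroup.mk_inv, QuotientGroup.mk_zpow, hj,
      QuotientGroup.mk'_apply, inv_mul_cancel]
  obtain ⟨d, σ, hσ, hσθ⟩ := θ'.2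
  haveI := hσ
  obtain ⟨χ₀, hχ₀, hχ₀res⟩ := CharExt.exists_irrCharacter_of_extension N' σ (θ' : N' → ℂ) hσθ
    (CharExt.exists_extension_of_isCyclic N' σ
      (CharExt.projG_surjective_of_char_invariant N' σ (θ' : N' → ℂ) hσθ hθinv))
  have hχ₀N : resFun N' χ₀ = (θ' : N' → ℂ) := funext hχ₀res
  obtain ⟨-, -, hG⟩ := Clifford.gallagher (N := N') hχ₀ (by rw [hχ₀N]; exact θ'.2)
  refine ⟨fun x => if hx : x ∈ K then χ₀ ⟨x, hx⟩ else 0, fun χ hχ => ?_⟩
  obtain ⟨m, hm⟩ := Chars.isCharacter_exists_nat_decomp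
    (Chars.isCharacter_restrict K (Chars.irr_isCharacter χ))
  have hmk : ∀ k : K, (χ : G → ℂ) k = ∑ φ : IrrCharacter K, (m φ : ℂ) * (φ : K → ℂ) k := fun k => by
    simpa only [Finset.sum_apply, Pi.smul_apply, smul_eq_mul] using congrFun hm k
  -- every constituent of the restriction to `K` lies over `θ'`
  have hover : ∀ φ : IrrCharacter K, m φ ≠ 0 →
      classInner (resFun N' (φ : K → ℂ)) (θ' : N' → ℂ) ≠ 0 := by
    intro φ hφ
    obtain ⟨η, hη⟩ := Covering.exists_constituent (N := N') φ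
    have hres : resFun N' (fun k : K => (χ : G → ℂ) k) =
        classInner (resFun N (χ : G → ℂ)) (θ : N → ℂ) • (θ' : N' → ℂ) := by
      funext x
      have h := congrFun (Clifford.resFun_eq_smul_of_invariant χ.2 θ.2 hχ hinv) (e x)
      exact h
    choose k hk using fun φ' : IrrCharacter K => Chars.isCharacter_classInner_nat
      (Chars.isCharacter_restrict N' (Chars.irr_isCharacter φ')) (Chars.irr_isCharacter η)
    have hsum : classInner (resFun N' (fun k : K => (χ : G → ℂ) k)) (η : N' → ℂ) =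
        ((∑ φ' : IrrCharacter K, m φ' * k φ' : ℕ) : ℂ) := by
      have h1 : resFun N' (fun k : K => (χ : G → ℂ) k) =
          ∑ φ' : IrrCharacter K, (m φ' : ℂ) • resFun N' (φ' : K → ℂ) := by
        funext x
        simp only [Finset.sum_apply, Pi.smul_apply, smul_eq_mul]
        exact hmk x
      rw [h1, Chars.classInner_sum_left, Nat.cast_sum]
      refine Finset.sum_congr rfl fun φ' _ => ?_
      rw [Chars.classInner_smul_left, Nat.cast_mul]
      exact congrArg _ (hk φ')
    by_contra hθ0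
    have hne : θ' ≠ η := fun h => hη (h ▸ hθ0)
    rw [hres, Chars.classInner_smul_left, Chars.classInner_irr_of_ne hne, mul_zero] at hsum
    have h0 : ∑ φ' : IrrCharacter K, m φ' * k φ' = 0 := by exact_mod_cast hsum.symm
    have h1 := Finset.sum_eq_zero_iff.1 h0 φ (Finset.mem_univ φ)
    refine hη ((hk φ).trans ?_)
    rw [(mul_eq_zero.1 h1).resolve_left hφ, Nat.cast_zero]
  have hβ : ∀ φ : IrrCharacter K, ∃ β : ℂ, m φ ≠ 0 → ∀ k : K, (k : K ⧸ N') =
      ((⟨a, hxK a rfl⟩ : K) : K ⧸ N') → (φ : K → ℂ) k = β * χ₀ k := by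
    intro φ
    by_cases hφ : m φ = 0
    · exact ⟨0, fun h => absurd hφ h⟩
    obtain ⟨β, hβ⟩ := (hG _ φ.2).1 (by rw [hχ₀N]; exact hover φ hφ)
    refine ⟨(β : K ⧸ N' → ℂ) ((⟨a, hxK a rfl⟩ : K) : K ⧸ N'), fun _ k hk => ?_⟩
    rw [hβ, Pi.mul_apply, mul_comm, ← hk]
    rfl
  choose β hβ using hβ
  refine ⟨∑ φ : IrrCharacter K, (m φ : ℂ) * β φ, fun x hx => ?_⟩
  beta_reduce
  rw [dif_pos (hxK x hx), Finset.sum_mul]
  refine (hmk ⟨x, hxK x hx⟩).trans (Finset.sum_congr rfl fun φ _ => ?_)
  by_cases hφ : m φ = 0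
  · simp [hφ]
  rw [hβ φ hφ _ ?_]
  · ring
  · rw [QuotientGroup.eq, hN'def, Subgroup.mem_subgroupOf, ← QuotientGroup.eq_one_iff]
    push_cast
    rw [QuotientGroup.mk_mul, QuotientGroup.mk_inv, hx, inv_mul_cancel]

end Coset

theorem rank_le_two_invariant {G : Type u} [Group G] [Fintype G] {M : Ideal AlgInt} [M.IsPrime]
    (N : Subgroup G) [hN : N.Normal] [Fintype N] (θ : IrrCharacter N)
    (hinv : ∀ g : G, conjFun g (θ : N → ℂ) = (θ : N → ℂ)) (a : G)
    (ha : ∀ g : G, IsPRegular 2 g → g ∈ N ∨ ∃ y : G, ((y⁻¹ * g * y : G) : G ⧸ N) = (a : G ⧸ N))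
    {B : Set (IrrCharacter G)}
    (hB : ∀ χ ∈ B, classInner (resFun N (χ : G → ℂ)) (θ : N → ℂ) ≠ 0) :
    blockRank 2 B ≤ 2 := by
  obtain ⟨F, hF⟩ := exists_proportional_on_coset N θ hinv a
  let U : G → ℂ := fun g =>
    if IsPRegular 2 g then (if hg : g ∈ N then (θ : N → ℂ) ⟨g, hg⟩ else 0) else 0
  let V : G → ℂ := fun g =>
    if IsPRegular 2 g ∧ g ∉ N then
      (if hy : ∃ y : G, ((y⁻¹ * g * y : G) : G ⧸ N) = (a : G ⧸ N) then
        F (hy.choose⁻¹ * g * hy.choose) else 0) else 0
  have hle : Submodule.span ℂ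
      ((fun χ : IrrCharacter G => pRegularPart 2 (χ : G → ℂ)) '' B) ≤
      Submodule.span ℂ (Set.range ![U, V]) := by
    rw [Submodule.span_le]
    rintro _ ⟨χ, hχ, rfl⟩
    obtain ⟨c, hc⟩ := hF χ (hB χ hχ)
    have hres := Clifford.resFun_eq_smul_of_invariant χ.2 θ.2 (hB χ hχ) hinv
    set e := classInner (resFun N (χ : G → ℂ)) (θ : N → ℂ) with he
    have heq : pRegularPart 2 (χ : G → ℂ) = e • U + c • V := by
      funext g
      simp only [pRegularPart, U, V, Pi.add_apply, Pi.smul_apply, smul_eq_mul]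
      by_cases hg : IsPRegular 2 g
      · rw [if_pos hg, if_pos hg]
        by_cases hgN : g ∈ N
        · rw [dif_pos hgN, if_neg (fun h => h.2 hgN), mul_zero, add_zero]
          exact congrFun hres ⟨g, hgN⟩
        · have hy := (ha g hg).resolve_left hgN
          rw [dif_neg hgN, if_pos ⟨hg, hgN⟩, dif_pos hy, mul_zero, zero_add, ← hc _ hy.choose_spec]
          have := Chars.irr_isClassFunction χ g hy.choose⁻¹
          rw [inv_inv] at this
          exact this.symm
      · rw [if_neg hg, if_neg hg, if_neg (fun h => hg h.1), mul_zero, mul_zero, add_zero]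
    show pRegularPart 2 (χ : G → ℂ) ∈ Submodule.span ℂ (Set.range ![U, V])
    rw [heq]
    exact Submodule.add_mem _ (Submodule.smul_mem _ _ (Submodule.subset_span ⟨0, rfl⟩))
      (Submodule.smul_mem _ _ (Submodule.subset_span ⟨1, rfl⟩))
  unfold blockRank
  refine (Submodule.finrank_mono hle).trans ?_
  have h := finrank_range_le_card (R := ℂ) ![U, V]
  simpa [Set.finrank] using h

/-- A `2`-block of a solvable group with dihedral or semidihedral defect group has rank at most
two. -/
theorem rank_le_two_of_solvable : ∀ (n : ℕ) (G : Type u) [Group G] [Fintype G]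
    (M : Ideal AlgInt) [M.IsPrime] (_ : IsPModular 2 M) (B : Set (IrrCharacter G))
    (_ : IsPBlock M B) (D : Subgroup G) (_ : IsDefectGroup 2 M B D) (_ : TameDefect D)
    (_ : Group.IsSolvable G) (_ : Nat.card G = n), blockRank 2 B ≤ 2 := by
  intro n
  induction n using Nat.strong_induction_on with
  | _ n ih =>
    intro G _ _ M _ hM B hB D hD hT hs hn
    haveI : Fact (Nat.Prime 2) := ⟨Nat.prime_two⟩
    haveI := hs
    set N : Subgroup G := pPrimeCore 2 G with hNdef
    haveI : Fintype N := Fintype.ofFinite N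
    have hN2 : ¬ 2 ∣ Nat.card N := PSolvable.pPrimeCore_not_dvd
    obtain ⟨χ₁, hχ₁⟩ := isPBlock_nonempty hB
    obtain ⟨θ, hθ⟩ := Covering.exists_constituent (N := N) χ₁
    set T : Subgroup G := inertia (θ : N → ℂ) with hTdef
    by_cases hTtop : T = ⊤
    · have hinv : ∀ g : G, conjFun g (θ : N → ℂ) = (θ : N → ℂ) := fun g =>
        mem_inertia.1 (hTdef ▸ hTtop ▸ Subgroup.mem_top g)
      obtain ⟨B₀, hB₀, hmem, -, hSyl⟩ := Cfsg.Agent.S4492.result 2 M hM
        PSolvable.isPSolvable_of_isSolvable N rfl θ (fun g m => congrFun (hinv g) m)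
      obtain rfl : B₀ = B := isPBlock_eq_of_mem hB₀ hB ((hmem χ₁).2 hθ) hχ₁
      obtain ⟨P, rfl⟩ := hSyl D hD
      have hdisj : (P : Subgroup G) ⊓ N = ⊥ :=
        PSolvable.inf_eq_bot_of_isPGroup_of_coprime P.2 PSolvable.pPrimeCore_coprime
      let P' : Sylow 2 (G ⧸ N) := P.mapSurjective (QuotientGroup.mk'_surjective N)
      have hP' : (P' : Subgroup (G ⧸ N)) = (P : Subgroup G).map (QuotientGroup.mk' N) := rfl
      let f : (P : Subgroup G) →* G ⧸ N := (QuotientGroup.mk' N).comp (P : Subgroup G).subtype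
      have hfinj : Function.Injective f := by
        rw [injective_iff_map_eq_one]
        intro x hx
        refine Subtype.ext ?_
        have h : (x : G) ∈ (P : Subgroup G) ⊓ N := ⟨x.2, (QuotientGroup.eq_one_iff (x : G)).1 hx⟩
        rwa [hdisj, Subgroup.mem_bot] at h
      have hfr : f.range = (P' : Subgroup (G ⧸ N)) := by
        rw [hP', MonoidHom.range_comp, Subgroup.range_subtype]
      have hT' : TameDefect (P' : Subgroup (G ⧸ N)) :=
        hT.of_equiv ((MonoidHom.ofInjective hfinj).trans (MulEquiv.subgroupCongr hfr))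
      obtain ⟨abar, habar⟩ := exists_forall_isConj (G := G ⧸ N) inferInstance
        (PSolvable.pPrimeCore_quotient_eq_bot (p := 2)) P' hT'.sylow_hyp
      obtain ⟨a, rfl⟩ := QuotientGroup.mk_surjective abar
      refine rank_le_two_invariant (M := M) N θ hinv a (fun g hg => ?_)
        (fun χ hχ => (hmem χ).1 hχ)
      have hcop : (orderOf (g : G ⧸ N)).Coprime 2 := by
        refine ((Nat.Prime.coprime_iff_not_dvd Nat.prime_two).2 fun h => hg ?_).symm
        exact h.trans (orderOf_map_dvd (QuotientGroup.mk' N) g)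
      rcases habar _ hcop with h | h
      · exact Or.inl ((QuotientGroup.eq_one_iff g).1 h)
      · obtain ⟨z, hz⟩ := isConj_iff.1 h
        obtain ⟨y, rfl⟩ := QuotientGroup.mk_surjective z
        refine Or.inr ⟨y, ?_⟩
        rw [QuotientGroup.mk_mul, QuotientGroup.mk_mul, QuotientGroup.mk_inv, ← hz]
        group
    · haveI : Fintype T := Fintype.ofFinite T
      set b : Set (IrrCharacter N) := blockOf M (θ : N → ℂ) with hbdef
      have hb : IsPBlock M b := isPBlock_blockOf θ
      have hθb : θ ∈ b := mem_blockOf_self θ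
      have hone : ∀ η ∈ b, η = θ := fun η hη =>
        Covering.eq_of_sameBlock_of_not_dvd hM hN2 (sameBlock_of_mem hb hθb hη)
      have hstab : BlockUnion.Stab.IsStab T b := by
        intro g
        rw [hTdef, mem_inertia]
        constructor
        · intro hg η hη η' h
          rw [hone η hη] at h
          have h' : η' = θ := Subtype.ext ((funext h).trans hg)
          exact h' ▸ hθb
        · intro h
          exact congrArg Subtype.val (hone ⟨_, Clifford.isIrrCharacter_conjFun g θ.2⟩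
            (h θ hθb _ fun _ => rfl))
      have hNT : N ≤ T := by
        intro m hm
        rw [hTdef, mem_inertia]
        funext x
        exact Chars.irr_isClassFunction θ x ⟨m, hm⟩
      obtain ⟨ψ, hcov, hψ⟩ := BlockUnion.Stab.exists_ind_eq hb hstab hNT hθb hθ
      set B' : Set (IrrCharacter T) := blockOf M (ψ : T → ℂ) with hB'def
      have hB' : IsPBlock M B' := isPBlock_blockOf ψ
      have hind : IsInducedBlock M T B' B := by
        have h := BlockUnion.Stab.isInducedBlock_ind hb hstab hNT hB' (mem_blockOf_self ψ) hcov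
        rw [hψ] at h
        rwa [isPBlock_eq_of_mem hB (isPBlock_blockOf χ₁) hχ₁ (mem_blockOf_self χ₁)]
      obtain ⟨D', hD'⟩ := exists_isDefectGroup (p := 2) hB'
      have hmap := BlockUnion.Stab.isDefectGroup_map hM hb hstab hNT hind
        (mem_blockOf_self ψ) hcov hD'
      obtain ⟨x, hx⟩ := isDefectGroup_conjugate hM hB hmap hD
      have hT' : TameDefect D' :=
        hT.of_equiv ((MulEquiv.subgroupCongr hx).trans
          (((D'.map T.subtype).equivMapOfInjective (MulAut.conj x).toMonoidHom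
            (MulAut.conj x).injective).symm.trans
            (D'.equivMapOfInjective T.subtype T.subtype_injective).symm))
      have hlt : Nat.card T < n := by
        rw [← hn]
        refine lt_of_le_of_ne (Nat.le_of_dvd Nat.card_pos T.card_subgroup_dvd_card) fun h => hTtop ?_
        exact Subgroup.eq_top_of_card_eq T h
      refine (blockRank_le_of_indFun T fun χ hχ =>
        (BlockUnion.Stab.mem_iff_exists_ind hb hstab hNT hind (mem_blockOf_self ψ) hcov χ).1 hχ).trans ?_
      exact ih _ hlt T M hM B' hB' D' hD' hT' inferInstance rfl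

end Cfsg.Agent.Lib.TameRankThree
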