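import Cfsg.Agent.Lib.DihedralDefect.Main
import Mathlib

/-!
# Dihedral blocks with an involution of the defect group not fused to the central one
-/

set_option autoImplicit false
set_option linter.unusedSectionVars false

namespace Cfsg.Agent.Lib.TameRankThree

open Finset Cfsg
open Cfsg.Agent.Lib
open Cfsg.Agent.Lib.BrauerPairs
open Cfsg.Agent.Lib.DihedralDefect
open Cfsg.Agent.Lib.NilBlock (bu bu_fst)
open scoped ComplexConjugate

universe u

attribute [local instance] Classical.propDecidable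

variable {G : Type u} [Group G] [Fintype G] {M : Ideal AlgInt} [M.IsPrime]
  {B : Set (IrrCharacter G)}

theorem isPPart_mul {v c : G} (hv : orderOf v = 2 ∨ ∃ k : ℕ, orderOf v = 2 ^ k)
    (hcomm : Commute v c) (hc : ¬ 2 ∣ orderOf c) : IsPPart 2 (v * c) v := by
  refine ⟨c, rfl, hcomm, ?_, hc⟩
  rcases hv with h | h
  · exact ⟨1, by rw [h, pow_one]⟩
  · exact h

theorem sum_inner_orth {H K : Type u} [Group H] {_ : Fintype H} [Group K] {_ : Fintype K}
    {F : H → G} {E : K → G} {θ : H → ℂ} {φ : K → ℂ}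
    (h : ∀ d c, ¬ 2 ∣ orderOf d → ¬ 2 ∣ orderOf c → ¬ IsConj (F d) (E c)) :
    ∑ χ : IrrCharacter G, classInner (pRegularPart 2 fun d => (χ : G → ℂ) (F d)) θ *
      conj (classInner (pRegularPart 2 fun c => (χ : G → ℂ) (E c)) φ) = 0 := by
  haveI : Fact (Nat.Prime 2) := ⟨Nat.prime_two⟩
  simp only [classInner, map_mul, map_sum, Finset.mul_sum, Finset.sum_mul]
  rw [Finset.sum_comm]
  refine Finset.sum_eq_zero fun c _ => ?_
  rw [Finset.sum_comm]
  refine Finset.sum_eq_zero fun d _ => ?_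
  simp only [BrauerFeit.pRegularPart_apply]
  by_cases hd : 2 ∣ orderOf d
  · simp [hd]
  by_cases hc : 2 ∣ orderOf c
  · simp [hc]
  simp only [hd, hc, if_false]
  rw [Finset.sum_congr rfl (g := fun χ : IrrCharacter G =>
    ((Nat.card H : ℂ)⁻¹ * conj (θ d) * (conj ((Nat.card K : ℂ)⁻¹) * conj (conj (φ c)))) *
      ((χ : G → ℂ) (F d) * conj ((χ : G → ℂ) (E c)))) fun χ _ => by ring, ← Finset.mul_sum,
    Chars.column_orthogonality_of_not_isConj (h d c hd hc), mul_zero]

theorem sum_inner_orth_mul {H K : Type u} [Group H] {iH : Fintype H} [Group K] {iK : Fintype K}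
    {F : H → G} {E : K → G} {θ : H → ℂ} {φ : K → ℂ} (a b : ℂ)
    (h : ∀ d c, ¬ 2 ∣ orderOf d → ¬ 2 ∣ orderOf c → ¬ IsConj (F d) (E c)) :
    ∑ χ : IrrCharacter G, a * (@classInner H _ iH (pRegularPart 2 fun d => (χ : G → ℂ) (F d)) θ * b) *
      conj (@classInner K _ iK (pRegularPart 2 fun c => (χ : G → ℂ) (E c)) φ) = 0 := by
  rw [Finset.sum_congr rfl fun (χ : IrrCharacter G) _ => show a * (@classInner H _ iH (pRegularPart 2 fun d =>
      (χ : G → ℂ) (F d)) θ * b) * conj (@classInner K _ iK (pRegularPart 2 fun c =>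
      (χ : G → ℂ) (E c)) φ) = a * b * (@classInner H _ iH (pRegularPart 2 fun d =>
      (χ : G → ℂ) (F d)) θ * conj (@classInner K _ iK (pRegularPart 2 fun c =>
      (χ : G → ℂ) (E c)) φ)) by ring, ← Finset.mul_sum, sum_inner_orth h, mul_zero]

theorem sum_inner_regular {K : Type u} [Group K] {_ : Fintype K} (hM : IsPModular 2 M)
    (hB : IsPBlock M B) {E : K → G} {φ : K → ℂ}
    (h : ∀ c, ¬ 2 ∣ orderOf c → 2 ∣ orderOf (E c)) {ρ : G} (hρ : ¬ 2 ∣ orderOf ρ) :
    ∑ χ ∈ B.toFinset, conj (classInner (pRegularPart 2 fun c => (χ : G → ℂ) (E c)) φ) *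
      (χ : G → ℂ) ρ = 0 := by
  haveI : Fact (Nat.Prime 2) := ⟨Nat.prime_two⟩
  simp only [classInner, map_mul, map_sum, Finset.mul_sum, Finset.sum_mul]
  rw [Finset.sum_comm]
  refine Finset.sum_eq_zero fun c _ => ?_
  simp only [BrauerFeit.pRegularPart_apply]
  by_cases hc : 2 ∣ orderOf c
  · simp [hc]
  simp only [hc, if_false]
  have horth := Blocks.weak_block_orth hM hB hρ (h c hc)
  rw [finsum_mem_eq_toFinset_sum] at horth
  rw [Finset.sum_congr rfl (g := fun χ : IrrCharacter G =>
    conj ((Nat.card K : ℂ)⁻¹) * conj (conj (φ c)) *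
      ((χ : G → ℂ) ρ * conj ((χ : G → ℂ) (E c)))) fun χ _ => by ring, ← Finset.mul_sum,
    horth, mul_zero]

/-- An involution of the defect group outside the class of the central one lowers the rank. -/
theorem rank_le_two (hM : IsPModular 2 M) {b : BrauerPairIdx G}
    (hmax : IsMaximalBrauerPair 2 M B b.1 b.2) {σ τ : G} {q : ℕ} (D : Dih b.1 σ τ q) {x : G}
    (hx : x ∈ b.1) (hx2 : orderOf x = 2) (hconj : ¬ IsConj x (σ ^ q)) :
    blockRank 2 B ≤ 2 := by
  haveI : Fact (Nat.Prime 2) := ⟨Nat.prime_two⟩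
  have hB : IsPBlock M B := hmax.1.2.1
  have hcard := (invariants hM hmax D).1
  obtain ⟨f, b', s, t, C⟩ := exists_ctx hM hmax D
  haveI := Fintype.ofFinite (cent (σ ^ q))
  obtain ⟨η₀, hη, h0⟩ := Blocks.exists_height_zero (p := 2) C.nil.1
  have N := nilDih hM C hη h0
  have hqp := D.q_pos
  have hq2 := D.two_le
  have hζ := Complex.isPrimitiveRoot_exp (2 * q) (by omega)
  obtain ⟨A, -, hA, hgram⟩ := exists_coords B.toFinset
    (fun χ l => col M b' η₀ χ (s ^ l)) q hq2 hζ
    (fun χ l hl => col_symm hM C hη h0 χ hl)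
    (fun χ ξ hξ => exists_int_col hM C hη h0 χ hξ) (fun l hl l' hl' => sum_col hM C hη h0 hl hl')
  -- the extra column
  set a := bu 2 M b x with ha
  have hord : ∃ k : ℕ, orderOf x = 2 ^ k := ⟨1, by rw [hx2, pow_one]⟩
  have haB := NilBlock.isBrauerPairOf_bu hM hmax hx
  have hmem : ∀ c : Subgroup.centralizer (a.1 : Set G), Commute x (c : G) := fun c =>
    (Subgroup.mem_centralizer_singleton_iff.1 ((NilBlock.centralizer_bu x).le c.2)).symm
  obtain ⟨χ₀, hχ₀, hχ00⟩ := Blocks.exists_height_zero (p := 2) hB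
  have hne : Contrib.contrib 2 x a.2 χ₀ χ₀ ≠ 0 := by
    have key : ∀ (L : Subgroup G) (e : Set (IrrCharacter L)),
        L = Subgroup.centralizer ({x} : Set G) → IsInducedBlock M L e B →
        Contrib.contrib 2 x e χ₀ χ₀ ≠ 0 := by
      rintro L e rfl he hz
      obtain ⟨lam, hlR, hlU, hl⟩ := Contrib.contrib_congr hM hord rfl he.1
      have hV := Contrib.blockVal_subsection hM hord he hχ₀ hχ00
      have hVR := Contrib.memLocalRing_blockVal hM e
        (Chars.isCharacter_restrict (Subgroup.centralizer ({x} : Set G)) (Chars.irr_isCharacter χ₀))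
      have h := hl χ₀ χ₀
      rw [hz, mul_zero, zero_sub] at h
      refine Blocks.not_memLocalIdeal_mul (Blocks.mem_localRing.1 (mul_mem
        (Blocks.mem_localRing.2 hlR) (Blocks.mem_localRing.2 hVR))) hVR
        (Blocks.not_memLocalIdeal_mul hlR hVR hlU hV) hV ?_
      have h2 := Blocks.memLocalIdeal_sub Blocks.memLocalIdeal_zero h
      rwa [zero_sub, neg_neg] at h2
    exact key _ _ (NilBlock.centralizer_bu x) (NilBlock.isInducedBlock_bu hM hmax hx)
  obtain ⟨ξ, -, hξ⟩ := Finset.exists_ne_zero_of_sum_ne_zero hne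
  set v : IrrCharacter G → ℂ := fun χ => conj (Contrib.secCoef 2 x χ ξ) with hv
  have hv0 : v χ₀ ≠ 0 := by
    simp only [hv]
    exact right_ne_zero_of_mul hξ
  -- it is killed on the regular elements
  have hvreg : ∀ ρ : G, ¬ 2 ∣ orderOf ρ → ∑ χ ∈ B.toFinset, v χ * (χ : G → ℂ) ρ = 0 := by
    intro ρ hρ
    simp only [hv, Contrib.secCoef]
    refine sum_inner_regular hM hB (fun c hc => ?_) hρ
    rw [(hmem c).orderOf_mul_eq_mul_orderOf_of_coprime, hx2]
    · exact dvd_mul_right _ _
    · rw [hx2, Subgroup.orderOf_coe]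
      exact (Nat.prime_two.coprime_iff_not_dvd).2 hc
  -- and orthogonal to the columns at the rotations
  have hvcol : ∀ l ∈ Finset.Ioo 0 (2 * q),
      ∑ χ ∈ B.toFinset, col M b' η₀ χ (s ^ l) * v χ = 0 := by
    intro l hl
    set w := s ^ l with hw
    have hwb : w ∈ b'.1 := N.pow_mem_b l
    have hzw : σ ^ q ∈ Subgroup.zpowers (w : G) :=
      z_mem_zpowers hM C hη h0 (pow_mem (Subgroup.mem_zpowers s) l) (N.pow_ne_one hl)
    rw [Finset.sum_subset (Finset.subset_univ B.toFinset) fun χ _ hχ => by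
      rw [col_eq_zero hM C hη h0 (by simpa using hχ) hwb hzw, zero_mul]]
    rw [Finset.sum_congr rfl fun χ _ => by
      rw [col, sum_classInner_mul_W (Chars.isClassFunction_of_isCharacter
        (Chars.isCharacter_restrict _ (Chars.irr_isCharacter χ))) w, Finset.mul_sum, Finset.sum_mul]]
    rw [Finset.sum_comm]
    refine Finset.sum_eq_zero fun ζ _ => ?_
    simp only [hv]
    show ∑ χ : IrrCharacter G, _ * conj (classInner _ _) = 0
    refine sum_inner_orth_mul _ _ fun d c hd hc => ?_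
    have hwc : IsPPart 2 ((w * (d : cent (σ ^ q)) : cent (σ ^ q)) : G) (w : G) := by
      rw [Subgroup.coe_mul]
      refine isPPart_mul (Or.inr ?_) ?_ ?_
      · obtain ⟨k, hk⟩ := NilBlock.exists_orderOf_eq hM C.max hwb
        exact ⟨k, by rw [Subgroup.orderOf_coe, hk]⟩
      · exact congrArg Subtype.val
          (Subgroup.mem_centralizer_singleton_iff.1 ((NilBlock.centralizer_bu w).le d.2)).symm
      · simpa [Subgroup.orderOf_coe] using hd
    have hxc : IsPPart 2 (x * (c : G)) x :=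
      isPPart_mul (Or.inl hx2) (hmem c) (by simpa [Subgroup.orderOf_coe] using hc)
    intro h
    obtain ⟨g, hg⟩ := isConj_iff.1 h
    have hgw := Blocks.isPPart_unique (hg ▸ Blocks.isPPart_conj hwc g) hxc
    have ho : orderOf (w : G) = 2 := by
      have := MulEquiv.orderOf_eq (MulAut.conj g) (w : G)
      rw [MulAut.conj_apply, hgw, hx2] at this
      exact this.symm
    have hzw' : σ ^ q = (w : G) := by
      obtain ⟨i, hi⟩ := mem_powers_iff_mem_zpowers.2 hzw
      change (w : G) ^ i = σ ^ q at hi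
      rw [← pow_mod_orderOf, ho] at hi
      rcases Nat.mod_two_eq_zero_or_one i with h1 | h1 <;> rw [h1] at hi
      · rw [pow_zero] at hi
        exact absurd hi.symm D.j_ne
      · rw [pow_one] at hi
        exact hi.symm
    exact hconj (isConj_iff.2 ⟨g, by rw [hzw']; exact hgw⟩).symm
  have hvA : ∀ j, ∑ χ ∈ B.toFinset, (A χ j : ℂ) * v χ = 0 := fun j =>
    sum_coords_eq_zero B.toFinset _ q hqp hA hvcol j
  -- the bound
  let a' : Fin (q + 1) → IrrCharacter G → ℂ :=
    Fin.cases (conj ∘ v) fun i χ => (A χ ((i : ℕ) + 1) : ℂ)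
  have hB' : B.toFinset.card = q + 3 := by
    rw [← hcard, Nat.card_coe_set_eq, Set.ncard_eq_toFinset_card']
  have h := blockRank_le_sub (B := B) (q := q + 1)
    (fun i => if i = 0 then v else a' i) ?_ ?_
  · omega
  · intro c hc
    have hc' : ∀ χ ∈ B, c 0 * v χ + ∑ i : Fin q, c i.succ * (A χ ((i : ℕ) + 1) : ℂ) = 0 := by
      intro χ hχ
      rw [← hc χ hχ, Fin.sum_univ_succ]
      simp [a', Fin.succ_ne_zero]
    have hc0 : c 0 = 0 := by
      have h1 : ∑ χ ∈ B.toFinset,
          (c 0 * v χ + ∑ i : Fin q, c i.succ * (A χ ((i : ℕ) + 1) : ℂ)) * conj (v χ) = 0 :=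
        Finset.sum_eq_zero fun χ hχ => by rw [hc' χ (Set.mem_toFinset.1 hχ), zero_mul]
      have hA' : ∀ j, ∑ χ ∈ B.toFinset, (A χ j : ℂ) * conj (v χ) = 0 := fun j => by
        have := congrArg conj (hvA j)
        simpa [map_sum] using this
      simp only [add_mul, Finset.sum_add_distrib, Finset.sum_mul, mul_assoc] at h1
      rw [Finset.sum_comm (t := Finset.univ)] at h1
      simp only [← Finset.mul_sum, hA', mul_zero, Finset.sum_const_zero, add_zero] at h1
      refine (mul_eq_zero.1 h1).resolve_right fun hs => hv0 ?_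
      simp only [Complex.mul_conj, ← Complex.ofReal_sum, Complex.ofReal_eq_zero] at hs
      exact Complex.normSq_eq_zero.1 ((Finset.sum_eq_zero_iff_of_nonneg
        fun χ _ => Complex.normSq_nonneg _).1 hs χ₀ (Set.mem_toFinset.2 hχ₀))
    have hrest : (fun i : Fin q => c i.succ) = 0 := by
      refine coords_independent B.toFinset A hqp hgram _ fun χ hχ => ?_
      have := hc' χ (Set.mem_toFinset.1 hχ)
      rwa [hc0, zero_mul, zero_add] at this
    funext i
    refine Fin.cases ?_ (fun j => ?_) i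
    · exact hc0
    · exact congrFun hrest j
  · intro i ρ hρ
    refine Fin.cases ?_ (fun j => ?_) i
    · simpa using hvreg ρ hρ
    · simp only [a', Fin.succ_ne_zero, if_false, Fin.cases_succ]
      exact sum_coords_eq_zero B.toFinset _ q hqp hA
        (fun l hl => sum_col_regular hM C hη h0 hl hρ) _

end Cfsg.Agent.Lib.TameRankThree
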